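import Groth.Agent.BBDec.K978.EtaleSection
import Mathlib.Algebra.DualNumber
import Mathlib.RingTheory.Smooth.Flat
import Mathlib.LinearAlgebra.Dual.Lemmas

/-!
# A closed subscheme through a rational point with the same tangent vectors

`A → B` a surjection of algebras over a field `k`, `A` a domain of finite type, `B` smooth, `σ : B → k` a
point.  If every tangent vector of `Spec A` at the point is a tangent vector of `Spec B` then `A = B`.
-/

set_option autoImplicit false

universe u

namespace K147.CotLie

open TrivSqZeroExt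

variable {k : Type u} [Field k] {A B : Type u} [CommRing A] [CommRing B] [Algebra k A] [Algebra k B]

/-- the algebra map `A → k[ε]` attached to a derivation -/
noncomputable def ofDer (τ : A →ₐ[k] k) (d : A →ₗ[k] k) (hd : ∀ a b : A, d (a * b) = τ a * d b + τ b * d a)
    (hd1 : d 1 = 0) : A →ₐ[k] DualNumber k :=
  AlgHom.ofLinearMap
    { toFun := fun a => inl (τ a) + inr (d a)
      map_add' := fun a b => by
        apply TrivSqZeroExt.ext <;> simp
      map_smul' := fun c a => by
        apply TrivSqZeroExt.ext <;> simp }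
    (by
      apply TrivSqZeroExt.ext
      · simp
      · simp [hd1])
    (fun a b => by
      apply TrivSqZeroExt.ext
      · simp
      · simp [hd, mul_comm])

/-- the projection of `A` to the kernel of a point -/
noncomputable def prj (τ : A →ₐ[k] k) : A →ₗ[k] RingHom.ker τ where
  toFun a := ⟨a - algebraMap k A (τ a), by
    rw [RingHom.mem_ker, map_sub, AlgHom.commutes]; exact sub_self _⟩
  map_add' a b := Subtype.ext (by
    change a + b - algebraMap k A (τ (a + b)) = (a - algebraMap k A (τ a)) + (b - algebraMap k A (τ b))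
    rw [map_add, map_add]; ring)
  map_smul' c a := Subtype.ext (by
    change c • a - algebraMap k A (τ (c • a)) = c • (a - algebraMap k A (τ a))
    rw [map_smul, smul_eq_mul, map_mul, smul_sub, Algebra.smul_def c (algebraMap k A (τ a))])

lemma prj_coe (τ : A →ₐ[k] k) (a : A) : (prj τ a : A) = a - algebraMap k A (τ a) := rfl

lemma prj_of_mem (τ : A →ₐ[k] k) (a : A) (ha : a ∈ RingHom.ker τ) : prj τ a = ⟨a, ha⟩ :=
  Subtype.ext (by
    rw [prj_coe]
    have : τ a = 0 := ha
    rw [this, map_zero, sub_zero])

lemma toCot_prj_mul (τ : A →ₐ[k] k) (a b : A) : (RingHom.ker τ).toCotangent (prj τ (a * b)) =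
    τ a • (RingHom.ker τ).toCotangent (prj τ b) + τ b • (RingHom.ker τ).toCotangent (prj τ a) := by
  have e1 : ∀ (c : k) (x : RingHom.ker τ), c • (RingHom.ker τ).toCotangent x =
      (RingHom.ker τ).toCotangent (algebraMap k A c • x) := fun c x => by
    rw [LinearMap.map_smul (RingHom.ker τ).toCotangent, algebraMap_smul]
  rw [e1, e1, ← map_add, ← sub_eq_zero, ← map_sub, Ideal.toCotangent_eq_zero]
  have h2 : ((prj τ (a * b) - (algebraMap k A (τ a) • prj τ b + algebraMap k A (τ b) • prj τ a) :
      RingHom.ker τ) : A) = (prj τ a : A) * (prj τ b : A) := by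
    change (a * b - algebraMap k A (τ (a * b))) - (algebraMap k A (τ a) * (b - algebraMap k A (τ b)) +
      algebraMap k A (τ b) * (a - algebraMap k A (τ a))) =
      (a - algebraMap k A (τ a)) * (b - algebraMap k A (τ b))
    rw [map_mul, map_mul]
    ring
  rw [h2, pow_two]
  exact Ideal.mul_mem_mul (prj τ a).2 (prj τ b).2

/-- the derivation attached to a linear form on `I/I²` -/
noncomputable def der (τ : A →ₐ[k] k) (ℓ : (RingHom.ker τ).Cotangent →ₗ[k] k) : A →ₗ[k] k :=
  ℓ ∘ₗ ((RingHom.ker τ).toCotangent.restrictScalars k) ∘ₗ prj τ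

lemma der_apply (τ : A →ₐ[k] k) (ℓ : (RingHom.ker τ).Cotangent →ₗ[k] k) (a : A) :
    der τ ℓ a = ℓ ((RingHom.ker τ).toCotangent (prj τ a)) := rfl

/-- the algebra map `A → k[ε]` attached to a linear form on `I/I²`, `I` the kernel of `τ : A → k` -/
noncomputable def tang (τ : A →ₐ[k] k) (ℓ : (RingHom.ker τ).Cotangent →ₗ[k] k) : A →ₐ[k] DualNumber k :=
  ofDer τ (der τ ℓ)
    (fun a b => by
      rw [der_apply, toCot_prj_mul, map_add, map_smul, map_smul]
      rfl)
    (by
      have h1 : prj τ 1 = 0 := Subtype.ext (by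
        rw [prj_coe, map_one, map_one, sub_self]
        rfl)
      rw [der_apply, h1, map_zero, map_zero])

lemma fst_tang (τ : A →ₐ[k] k) (ℓ : (RingHom.ker τ).Cotangent →ₗ[k] k) (a : A) :
    (tang τ ℓ a).fst = τ a := by
  change (inl (τ a) + inr _ : DualNumber k).fst = _
  simp

lemma snd_tang (τ : A →ₐ[k] k) (ℓ : (RingHom.ker τ).Cotangent →ₗ[k] k) (a : A) (ha : a ∈ RingHom.ker τ) :
    (tang τ ℓ a).snd = ℓ ((RingHom.ker τ).toCotangent ⟨a, ha⟩) := by
  change (inl (τ a) + inr (ℓ ((RingHom.ker τ).toCotangent (prj τ a))) : DualNumber k).snd = _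
  rw [prj_of_mem τ a ha]
  simp

/-- **Tangent vectors detect equality.** -/
theorem injective [IsDomain A] [Algebra.FiniteType k A] [Algebra.Smooth k B]
    (φ : A →ₐ[k] B) (hφ : Function.Surjective φ) (σ : B →ₐ[k] k)
    (hL : ∀ D : A →ₐ[k] DualNumber k, (∀ a, (D a).fst = σ (φ a)) → ∀ a, φ a = 0 → (D a).snd = 0) :
    Function.Injective φ := by
  let τ : A →ₐ[k] k := σ.comp φ
  -- the kernel is contained in the square
  have hker : ∀ a : A, φ a = 0 → a ∈ (RingHom.ker τ) ^ 2 := by
    intro a ha
    have ha' : a ∈ RingHom.ker τ := by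
      rw [RingHom.mem_ker]
      change σ (φ a) = 0
      rw [ha, map_zero]
    by_contra hne
    have h1 : (RingHom.ker τ).toCotangent ⟨a, ha'⟩ ≠ 0 := by
      rw [Ne, Ideal.toCotangent_eq_zero]
      exact hne
    have h2 := (Module.forall_dual_apply_eq_zero_iff k ((RingHom.ker τ).toCotangent ⟨a, ha'⟩)).not.2 h1
    push Not at h2
    obtain ⟨ℓ, hℓ⟩ := h2
    apply hℓ
    rw [← snd_tang τ ℓ a ha']
    exact hL (tang τ ℓ) (fst_tang τ ℓ) a ha
  algebraize [φ.toRingHom]
  have : IsScalarTower k A B := .of_algebraMap_eq fun x => (φ.commutes x).symm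
  have hle : RingHom.ker τ ≤ (RingHom.ker σ).comap (IsScalarTower.toAlgHom k A B) := by
    intro a ha
    exact ha
  have hcot : Function.Bijective
      (Ideal.mapCotangent (RingHom.ker τ) (RingHom.ker σ) (IsScalarTower.toAlgHom k A B) hle) := by
    constructor
    · rw [injective_iff_map_eq_zero]
      intro x hx
      obtain ⟨⟨a, ha⟩, rfl⟩ := Ideal.toCotangent_surjective _ x
      rw [Ideal.mapCotangent_toCotangent, Ideal.toCotangent_eq_zero] at hx
      change φ a ∈ (RingHom.ker σ) ^ 2 at hx
      rw [Ideal.toCotangent_eq_zero]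
      change a ∈ (RingHom.ker τ) ^ 2
      have h1 : (RingHom.ker σ) ^ 2 = ((RingHom.ker τ) ^ 2).map φ := by
        rw [Ideal.map_pow]
        congr 1
        have h2 : RingHom.ker τ = (RingHom.ker σ).comap φ := rfl
        rw [h2, Ideal.map_comap_of_surjective φ hφ]
      rw [h1, Ideal.mem_map_iff_of_surjective φ hφ] at hx
      obtain ⟨b, hb, hab⟩ := hx
      have h3 : a - b ∈ (RingHom.ker τ) ^ 2 := hker (a - b) (by rw [map_sub, hab, sub_self])
      have h4 := add_mem h3 hb
      rwa [sub_add_cancel] at h4
    · intro y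
      obtain ⟨⟨b, hb⟩, rfl⟩ := Ideal.toCotangent_surjective _ y
      obtain ⟨a, rfl⟩ := hφ b
      exact ⟨(RingHom.ker τ).toCotangent ⟨a, hb⟩, by rw [Ideal.mapCotangent_toCotangent]; rfl⟩
  have hP : (RingHom.ker σ).IsPrime := RingHom.ker_isPrime σ
  have hsm : Algebra.IsSmoothAt k (RingHom.ker σ) := inferInstance
  have het : Algebra.IsEtaleAt A (RingHom.ker σ) :=
    K978.EtaleSection.isEtaleAt k B A σ τ hle hcot (RingHom.ker σ) le_rfl
  have hnoeth : IsNoetherianRing A := Algebra.FiniteType.isNoetherianRing k A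
  have hft : Algebra.FiniteType A B := .of_restrictScalars_finiteType k A B
  have hfp : Algebra.FinitePresentation A B := Algebra.FinitePresentation.of_finiteType.1 hft
  obtain ⟨f, hf, hetf⟩ := Algebra.exists_etale_of_isEtaleAt (R := A) (RingHom.ker σ)
  have hflat : Module.Flat A (Localization.Away f) := inferInstance
  have hnt : Nontrivial (Localization.Away f) := by
    have h1 : IsUnit (σ f) := isUnit_iff_ne_zero.2 hf
    let g : Localization.Away f →+* k := IsLocalization.Away.lift f (g := σ.toRingHom) h1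
    exact g.domain_nontrivial
  rw [injective_iff_map_eq_zero]
  intro a ha
  by_contra hne
  have h3 : IsSMulRegular A a := fun x y h => mul_left_cancel₀ hne h
  have h2 : IsSMulRegular (Localization.Away f) (algebraMap A (Localization.Away f) a) := h3.of_flat
  have h4 : algebraMap A (Localization.Away f) a = 0 := by
    rw [IsScalarTower.algebraMap_apply A B (Localization.Away f)]
    have h5 : algebraMap A B a = 0 := ha
    rw [h5, map_zero]
  rw [h4] at h2
  apply one_ne_zero (α := Localization.Away f)
  apply h2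
  change (0 : Localization.Away f) • (1 : Localization.Away f) = (0 : Localization.Away f) • 0
  rw [zero_smul, zero_smul]

end K147.CotLie
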