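import Groth.Agent.Sga3B.Parab.DSHom
import Groth.Agent.Books.AffBridge2
import Mathlib.RingTheory.Flat.Basic

/-!
# Homomorphisms from `D(Γ)` to an affine group of finite type factor through a finitely generated subgroup of `Γ`
-/

set_option autoImplicit false

universe u

open CategoryTheory MonoidalCategory CartesianMonoidalCategory MonObj GrpObj AlgebraicGeometry
open scoped TensorProduct
open Groth.Agent.Books.AffBridge Groth.Agent.Books.AffBridge2

namespace K147.Fact

open Groth.Agent.Sga3B Groth.Agent.Sga3B.RG.BrDiag Groth.Agent.Sga3B.Parab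

variable {R : Type u} [CommRing R] {Γ : Type} [AddCommGroup Γ]

/-- the inclusion of group algebras attached to a subgroup -/
noncomputable abbrev inc (R : Type u) [CommRing R] (Γ₀ : AddSubgroup Γ) :
    MonoidAlgebra R (Multiplicative Γ₀) →ₐc[R] MonoidAlgebra R (Multiplicative Γ) :=
  MonoidAlgebra.mapDomainBialgHom R (AddMonoidHom.toMultiplicative Γ₀.subtype)

lemma inc_injective (Γ₀ : AddSubgroup Γ) : Function.Injective (inc R Γ₀) :=
  MonoidAlgebra.mapDomain_injective (R := R)
    (f := (AddMonoidHom.toMultiplicative Γ₀.subtype : Multiplicative Γ₀ →* Multiplicative Γ))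
    (fun _ _ h => Subtype.val_injective (Multiplicative.ofAdd.injective h))

/-- elements with support in the subgroup come from the subgroup -/
lemma mem_range_inc (Γ₀ : AddSubgroup Γ) (x : MonoidAlgebra R (Multiplicative Γ))
    (h : ∀ m ∈ x.coeff.support, m.toAdd ∈ Γ₀) :
    x ∈ (inc R Γ₀ : MonoidAlgebra R (Multiplicative Γ₀) →ₐ[R] MonoidAlgebra R (Multiplicative Γ)).range := by
  classical
  have h1 : x = ∑ m ∈ x.coeff.support, MonoidAlgebra.single m (x.coeff m) := by
    apply MonoidAlgebra.coeff_injective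
    ext m
    rw [MonoidAlgebra.coeff_sum, Finset.sum_apply']
    simp only [MonoidAlgebra.coeff_single, Finsupp.single_apply]
    rw [Finset.sum_ite_eq']
    split_ifs with hm
    · rfl
    · exact Finsupp.notMem_support_iff.1 hm
  rw [h1]
  refine sum_mem fun m hm => ?_
  refine ⟨MonoidAlgebra.single (Multiplicative.ofAdd ⟨m.toAdd, h m hm⟩) (x.coeff m), ?_⟩
  exact MonoidAlgebra.mapDomainBialgHom_single _ _ _

/-- **Factorization through a finitely generated subgroup**, for bialgebra maps. -/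
theorem exists_factor_bialg {A : Type u} [CommRing A] [Bialgebra R A] [Algebra.FiniteType R A]
    (π : A →ₐc[R] MonoidAlgebra R (Multiplicative Γ)) :
    ∃ (Γ₀ : AddSubgroup Γ) (_ : AddGroup.FG Γ₀) (π₀ : A →ₐc[R] MonoidAlgebra R (Multiplicative Γ₀)),
      ∀ a, inc R Γ₀ (π₀ a) = π a := by
  classical
  obtain ⟨s, hs⟩ := ‹Algebra.FiniteType R A›.out
  let F : Finset Γ := (s.biUnion fun a => (π a).coeff.support).image Multiplicative.toAdd
  let Γ₀ : AddSubgroup Γ := AddSubgroup.closure (F : Set Γ)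
  have hfg : AddGroup.FG Γ₀ := (AddGroup.fg_iff_addSubgroup_fg Γ₀).2 ⟨F, rfl⟩
  have h1 : ∀ a, π a ∈
      (inc R Γ₀ : MonoidAlgebra R (Multiplicative Γ₀) →ₐ[R] MonoidAlgebra R (Multiplicative Γ)).range := by
    have h2 : Algebra.adjoin R (s : Set A) ≤
        ((inc R Γ₀ : MonoidAlgebra R (Multiplicative Γ₀) →ₐ[R]
          MonoidAlgebra R (Multiplicative Γ)).range).comap (π : A →ₐ[R] _) := by
      rw [Algebra.adjoin_le_iff]
      intro a ha
      refine mem_range_inc Γ₀ _ fun m hm => AddSubgroup.subset_closure ?_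
      exact Finset.mem_image_of_mem _ (Finset.mem_biUnion.2 ⟨a, ha, hm⟩)
    rw [hs] at h2
    intro a
    exact h2 Algebra.mem_top
  let i : MonoidAlgebra R (Multiplicative Γ₀) →ₐ[R] MonoidAlgebra R (Multiplicative Γ) := inc R Γ₀
  have hi : Function.Injective i := inc_injective Γ₀
  let π₀ : A →ₐ[R] MonoidAlgebra R (Multiplicative Γ₀) :=
    ((AlgEquiv.ofInjective i hi).symm : _ →ₐ[R] _).comp ((π : A →ₐ[R] _).codRestrict i.range h1)
  have hπ : ∀ a, i (π₀ a) = π a := by
    intro a
    have h2 := (AlgEquiv.ofInjective i hi).apply_symm_apply ((π : A →ₐ[R] _).codRestrict i.range h1 a)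
    exact congrArg Subtype.val h2
  have hflat1 : Module.Flat R (MonoidAlgebra R (Multiplicative Γ₀)) := inferInstance
  have hflat2 : Module.Flat R (MonoidAlgebra R (Multiplicative Γ)) := inferInstance
  have hii : Function.Injective (Algebra.TensorProduct.map i i) :=
    TensorProduct.map_injective_of_flat_flat i.toLinearMap i.toLinearMap hi hi
  refine ⟨Γ₀, hfg, BialgHom.ofAlgHom π₀ ?_ ?_, hπ⟩
  · ext a
    have h2 : Bialgebra.counitAlgHom R _ (i (π₀ a)) = Bialgebra.counitAlgHom R _ (π₀ a) :=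
      CoalgHomClass.counit_comp_apply (inc R Γ₀) (π₀ a)
    rw [hπ] at h2
    exact h2.symm.trans (CoalgHomClass.counit_comp_apply π a)
  · ext a
    apply hii
    have h2 : Algebra.TensorProduct.map i i (Bialgebra.comulAlgHom R _ (π₀ a)) =
        Bialgebra.comulAlgHom R _ (i (π₀ a)) :=
      CoalgHomClass.map_comp_comul_apply (inc R Γ₀) (π₀ a)
    have h3 : Algebra.TensorProduct.map (π : A →ₐ[R] _) (π : A →ₐ[R] _) (Bialgebra.comulAlgHom R _ a) =
        Bialgebra.comulAlgHom R _ (π a) :=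
      CoalgHomClass.map_comp_comul_apply π a
    have h4 : (Algebra.TensorProduct.map i i).comp (Algebra.TensorProduct.map π₀ π₀) =
        Algebra.TensorProduct.map (π : A →ₐ[R] _) (π : A →ₐ[R] _) := by
      rw [← Algebra.TensorProduct.map_comp]
      congr 1 <;> exact AlgHom.ext hπ
    change Algebra.TensorProduct.map i i (Algebra.TensorProduct.map π₀ π₀ (Bialgebra.comulAlgHom R _ a)) =
      Algebra.TensorProduct.map i i (Bialgebra.comulAlgHom R _ (π₀ a))
    rw [h2, hπ, ← h3, ← h4]
    rfl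

/-- **Factorization through a finitely generated subgroup.** -/
theorem exists_factor {G : Over (Spec (CommRingCat.of R))} [GrpObj G] [IsAffineHom G.hom]
    [LocallyOfFiniteType G.hom] (f : Red.DS (Spec (CommRingCat.of R)) Γ ⟶ G) [IsMonHom f] :
    ∃ (Γ₀ : AddSubgroup Γ) (_ : AddGroup.FG Γ₀) (J : Red.DS (Spec (CommRingCat.of R)) Γ₀ ⟶ G),
      IsMonHom J ∧ f = Red.DSmap (Spec (CommRingCat.of R)) Γ₀.subtype ≫ J := by
  have : IsAffine G.left := isAffine_of_isAffineHom G.hom
  obtain ⟨A, _, _, e, _⟩ := exists_hopf R G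
  have hft : Algebra.FiniteType R A := by
    have h1 : LocallyOfFiniteType (SpecOver R A).hom := by
      rw [← Over.w e.inv]
      have h4 : IsIso e.inv.left := inferInstanceAs (IsIso ((Over.forget _).map e.inv))
      infer_instance
    have h2 := (HasRingHomProperty.Spec_iff (P := @LocallyOfFiniteType)).1 h1
    exact RingHom.finiteType_algebraMap.1 h2
  obtain ⟨π, hπ⟩ := exists_bialgHom_of_isMonHom R (diagTo R Γ ≫ f ≫ e.hom)
  obtain ⟨Γ₀, hfg, π₀, h0⟩ := exists_factor_bialg π
  have hinv : IsMonHom e.inv := inferInstance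
  have h1 : IsMonHom (asIso (diagTo R Γ₀)).hom := isMonHom_diagTo R Γ₀
  have h2 : IsMonHom (asIso (diagTo R Γ₀)).inv := inferInstance
  let π₁ : A →ₐ[R] MonoidAlgebra R (Multiplicative Γ₀) := π₀
  let i₁ : MonoidAlgebra R (Multiplicative Γ₀) →ₐ[R] MonoidAlgebra R (Multiplicative Γ) := inc R Γ₀
  have h3 : IsMonHom (specMap R π₁) := isMonHom_specMap R π₀
  refine ⟨Γ₀, hfg, (asIso (diagTo R Γ₀)).inv ≫ specMap R π₁ ≫ e.inv, inferInstance, ?_⟩
  rw [← cancel_epi (diagTo R Γ), ← Category.assoc, DSHom.diagTo_DSmap]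
  have h4 : dsSpecEquiv (MonoidAlgebra R (Multiplicative Γ))
      ((MonoidAlgebra.of R (Multiplicative Γ)).comp (AddMonoidHom.toMultiplicative Γ₀.subtype)) =
      specMap R i₁ ≫ diagTo R Γ₀ := by
    rw [specMap_diagTo]
    congr 1
    refine MonoidHom.ext fun m => ?_
    exact (MonoidAlgebra.mapDomainBialgHom_single _ _ _).symm
  rw [h4]
  have h5 : (specMap R i₁ ≫ diagTo R Γ₀) ≫ (asIso (diagTo R Γ₀)).inv ≫
      specMap R π₁ ≫ e.inv = (specMap R i₁ ≫ specMap R π₁) ≫ e.inv := by
    rw [asIso_inv, Category.assoc, IsIso.hom_inv_id_assoc, Category.assoc]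
  rw [h5, ← specMap_comp]
  have h6 : i₁.comp π₁ = (π : A →ₐ[R] MonoidAlgebra R (Multiplicative Γ)) := AlgHom.ext h0
  rw [h6, hπ, Category.assoc, Category.assoc, e.hom_inv_id, Category.comp_id]

end K147.Fact
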