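import Mathlib.GroupTheory.DivisibleHull
import Mathlib.LinearAlgebra.Dual.Lemmas
import Mathlib.GroupTheory.Finiteness
import Mathlib.Data.Rat.Lemmas
import Mathlib.Tactic.Positivity
import Mathlib.Tactic.FieldSimp
import Mathlib.Tactic.Linarith

/-!
# Approximation of a total order on a finitely generated group by integral linear forms

`exists_pos` is Gordan's alternative over `ℚ`; `exists_int`: for a totally ordered finitely
generated commutative group `Γ` and a finite set `F` there is `ν : Γ →+ ℤ` with the same signs as the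
order on `F`.
-/

set_option autoImplicit false

namespace K147.Ord

/-- **Gordan's alternative.**  If no non-trivial non-negative combination of the vectors `v i` vanishes, there
is a linear form which is positive on all of them. -/
theorem exists_pos (n : ℕ) : ∀ {V : Type*} [AddCommGroup V] [Module ℚ V] (v : Fin n → V),
    (∀ c : Fin n → ℚ, (∀ i, 0 ≤ c i) → ∑ i, c i • v i = 0 → ∀ i, c i = 0) →
    ∃ φ : V →ₗ[ℚ] ℚ, ∀ i, 0 < φ (v i) := by
  induction n with
  | zero => intro V _ _ v _; exact ⟨0, fun i => i.elim0⟩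
  | succ n ih =>
    intro V _ _ v H
    by_cases h : ∀ c : Fin n → ℚ, (∀ i, 0 ≤ c i) →
        ∑ i, c i • (Submodule.span ℚ {v 0}).mkQ (v i.succ) = 0 → ∀ i, c i = 0
    · obtain ⟨ψ, hψ⟩ := ih (fun i => (Submodule.span ℚ {v 0}).mkQ (v i.succ)) h
      have h0 : v 0 ≠ 0 := by
        intro h0
        have h1 := H (fun i => if i = 0 then 1 else 0) (fun i => by split_ifs <;> norm_num)
          (by simp [h0]) 0
        simp at h1
      obtain ⟨χ, hχ⟩ : ∃ χ : V →ₗ[ℚ] ℚ, 0 < χ (v 0) := by
        have h1 := (Module.forall_dual_apply_eq_zero_iff ℚ (v 0)).not.2 h0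
        push Not at h1
        obtain ⟨χ, hχ⟩ := h1
        rcases lt_or_gt_of_ne hχ with h2 | h2
        · exact ⟨-χ, by simpa using h2⟩
        · exact ⟨χ, h2⟩
      let φ' : V →ₗ[ℚ] ℚ := ψ.comp (Submodule.span ℚ {v 0}).mkQ
      have hφ0 : φ' (v 0) = 0 := by
        have : (Submodule.span ℚ {v 0}).mkQ (v 0) = 0 := by
          rw [Submodule.mkQ_apply, Submodule.Quotient.mk_eq_zero]
          exact Submodule.mem_span_singleton_self _
        change ψ _ = 0
        rw [this, map_zero]
      have hφ : ∀ i : Fin n, 0 < φ' (v i.succ) := hψ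
      let N : ℚ := ∑ i : Fin n, |χ (v i.succ)| / φ' (v i.succ) + 1
      refine ⟨N • φ' + χ, fun i => ?_⟩
      refine Fin.cases ?_ (fun i => ?_) i
      · change 0 < N • φ' (v 0) + χ (v 0)
        rw [hφ0, smul_zero, zero_add]
        exact hχ
      · change 0 < N • φ' (v i.succ) + χ (v i.succ)
        have h1 : |χ (v i.succ)| / φ' (v i.succ) ≤ ∑ i : Fin n, |χ (v i.succ)| / φ' (v i.succ) :=
          Finset.single_le_sum (f := fun i : Fin n => |χ (v i.succ)| / φ' (v i.succ))
            (fun j _ => div_nonneg (abs_nonneg _) (hφ j).le) (Finset.mem_univ i)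
        have h2 : |χ (v i.succ)| + φ' (v i.succ) ≤ N * φ' (v i.succ) := by
          have h3 : (|χ (v i.succ)| / φ' (v i.succ) + 1) * φ' (v i.succ) ≤ N * φ' (v i.succ) :=
            mul_le_mul_of_nonneg_right (by linarith) (hφ i).le
          have h4 : (|χ (v i.succ)| / φ' (v i.succ) + 1) * φ' (v i.succ) =
              |χ (v i.succ)| + φ' (v i.succ) := by
            have := (hφ i).ne'
            field_simp
          linarith
        rw [smul_eq_mul]
        have h3 := neg_abs_le (χ (v i.succ))
        have h4 := hφ i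
        linarith
    · push Not at h
      obtain ⟨c, hc, hs, j, hj⟩ := h
      have h1 : ∑ i, c i • v i.succ ∈ Submodule.span ℚ {v 0} := by
        rw [← Submodule.Quotient.mk_eq_zero, ← Submodule.mkQ_apply, map_sum]
        simpa using hs
      obtain ⟨t, ht⟩ := Submodule.mem_span_singleton.1 h1
      have hcj : 0 < c j := lt_of_le_of_ne (hc j) (Ne.symm hj)
      have htpos : 0 < t := by
        by_contra hneg
        push Not at hneg
        have h2 := H (Fin.cons (-t) c) (fun i => by
          refine Fin.cases ?_ (fun i => ?_) i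
          · simpa using hneg
          · simpa using hc i) (by
          rw [Fin.sum_univ_succ]
          simp only [Fin.cons_zero, Fin.cons_succ, neg_smul]
          rw [← ht, neg_add_cancel]) j.succ
        simp only [Fin.cons_succ] at h2
        exact hj h2
      obtain ⟨φ, hφ⟩ := ih (fun i => v i.succ) (fun c' hc' hs' i => by
        have h2 := H (Fin.cons 0 c') (fun i => by
          refine Fin.cases ?_ (fun i => ?_) i
          · simp
          · simpa using hc' i) (by
          rw [Fin.sum_univ_succ]
          simpa using hs') i.succ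
        simpa using h2)
      refine ⟨φ, fun i => ?_⟩
      refine Fin.cases ?_ (fun i => hφ i) i
      have h3 : t * φ (v 0) = ∑ i, c i * φ (v i.succ) := by
        have := congrArg φ ht
        rw [map_smul, map_sum] at this
        simpa using this
      have h4 : 0 < ∑ i, c i * φ (v i.succ) :=
        Finset.sum_pos' (fun i _ => mul_nonneg (hc i) (hφ i).le) ⟨j, Finset.mem_univ j, mul_pos hcj (hφ j)⟩
      rw [← h3] at h4
      exact pos_of_mul_pos_right h4 htpos.le

section

variable {Γ : Type*} [AddCommGroup Γ]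

/-- A homomorphism from a finitely generated group to `ℚ` has integral values after multiplication with a
positive integer. -/
theorem exists_int_of_rat [AddGroup.FG Γ] (g : Γ →+ ℚ) :
    ∃ (N : ℕ) (_ : 0 < N) (ν : Γ →+ ℤ), ∀ γ, (ν γ : ℚ) = N * g γ := by
  classical
  obtain ⟨S, hS⟩ := (AddGroup.fg_def.1 ‹AddGroup.FG Γ›)
  let N : ℕ := ∏ s ∈ S, (g s).den
  have hN : 0 < N := Finset.prod_pos fun s _ => (g s).den_pos
  have h1 : ∀ γ : Γ, ∃ z : ℤ, (z : ℚ) = N * g γ := by
    intro γ
    have h2 : γ ∈ AddSubgroup.closure (S : Set Γ) := by rw [hS]; trivial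
    induction h2 using AddSubgroup.closure_induction with
    | mem x hx =>
      obtain ⟨k, hk⟩ : (g x).den ∣ N := Finset.dvd_prod_of_mem (fun s => (g s).den) hx
      refine ⟨k * (g x).num, ?_⟩
      rw [hk]
      push_cast
      have h3 : ((g x).den : ℚ) * g x = (g x).num := Rat.den_mul_eq_num (g x)
      rw [← h3]
      ring
    | zero => exact ⟨0, by simp⟩
    | add x y _ _ hx hy =>
      obtain ⟨a, ha⟩ := hx
      obtain ⟨b, hb⟩ := hy
      exact ⟨a + b, by push_cast; rw [ha, hb, map_add, mul_add]⟩
    | neg x _ hx =>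
      obtain ⟨a, ha⟩ := hx
      exact ⟨-a, by push_cast; rw [ha, map_neg, mul_neg]⟩
  choose z hz using h1
  refine ⟨N, hN, { toFun := z, map_zero' := ?_, map_add' := fun x y => ?_ }, hz⟩
  · have := hz 0
    rw [map_zero, mul_zero] at this
    exact_mod_cast this
  · have h2 : ((z (x + y) : ℤ) : ℚ) = ((z x + z y : ℤ) : ℚ) := by
      push_cast
      rw [hz, hz, hz, map_add, mul_add]
    exact_mod_cast h2

variable [LinearOrder Γ] [IsOrderedAddMonoid Γ]

/-- **Approximation of a total order.** -/
theorem exists_int [AddGroup.FG Γ] (F : Finset Γ) :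
    ∃ ν : Γ →+ ℤ, (∀ m ∈ F, 0 ≤ m ↔ 0 ≤ ν m) ∧ ∀ m ∈ F, ν m = 0 → m = 0 := by
  classical
  let F' : Finset Γ := (F ∪ F.image (fun m => -m)).filter (fun m => 0 < m)
  let e := F'.equivFin
  obtain ⟨φ, hφ⟩ := exists_pos F'.card
    (fun i => ((((e.symm i : F') : Γ) : Γ) : DivisibleHull Γ)) (by
    intro c hc hs
    have hpos : ∀ i, (0 : DivisibleHull Γ) < (((e.symm i : F') : Γ) : DivisibleHull Γ) := by
      intro i
      have h1 : (0 : Γ) < ((e.symm i : F') : Γ) := (Finset.mem_filter.1 (e.symm i).2).2
      have h2 : (((0 : Γ) : Γ) : DivisibleHull Γ) < (((e.symm i : F') : Γ) : DivisibleHull Γ) := by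
        rw [DivisibleHull.mk_lt_mk]
        simpa using h1
      have h5 : (((0 : Γ) : Γ) : DivisibleHull Γ) = 0 := DivisibleHull.mk_zero 1
      rwa [h5] at h2
    have h3 : ∀ i ∈ Finset.univ, c i • (((e.symm i : F') : Γ) : DivisibleHull Γ) = 0 :=
      (Finset.sum_eq_zero_iff_of_nonneg (fun i _ => smul_nonneg (hc i) (hpos i).le)).1 hs
    intro i
    rcases smul_eq_zero.1 (h3 i (Finset.mem_univ i)) with h4 | h4
    · exact h4
    · exact absurd h4 (hpos i).ne')
  let g : Γ →+ ℚ := φ.toAddMonoidHom.comp (DivisibleHull.coeAddMonoidHom Γ)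
  have hg : ∀ m ∈ F', 0 < g m := by
    intro m hm
    have := hφ (e ⟨m, hm⟩)
    rw [Equiv.symm_apply_apply] at this
    exact this
  obtain ⟨N, hN, ν, hν⟩ := exists_int_of_rat g
  have hpos : ∀ m ∈ F', 0 < ν m := by
    intro m hm
    have h1 : (0 : ℚ) < ν m := by
      rw [hν]
      exact mul_pos (by exact_mod_cast hN) (hg m hm)
    exact_mod_cast h1
  have key : ∀ m ∈ F, (0 < m → 0 < ν m) ∧ (m < 0 → ν m < 0) := by
    intro m hm
    constructor
    · intro h
      exact hpos m (Finset.mem_filter.2 ⟨Finset.mem_union_left _ hm, h⟩)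
    · intro h
      have h1 := hpos (-m) (Finset.mem_filter.2
        ⟨Finset.mem_union_right _ (Finset.mem_image_of_mem _ hm), by simpa using h⟩)
      rw [map_neg] at h1
      omega
  refine ⟨ν, fun m hm => ?_, fun m hm h => ?_⟩
  · rcases lt_trichotomy m 0 with h | rfl | h
    · have := (key m hm).2 h
      exact ⟨fun h' => absurd h' (not_le.2 h), fun h' => absurd h' (not_le.2 this)⟩
    · simp
    · exact ⟨fun _ => ((key m hm).1 h).le, fun _ => h.le⟩
  · rcases lt_trichotomy m 0 with h' | h' | h'
    · have := (key m hm).2 h'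
      omega
    · exact h'
    · have := (key m hm).1 h'
      omega

end

end K147.Ord
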