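import Groth.Agent.Sga3B.Parab.OrbPar156
import Groth.Agent.Par.K147.Fact
import Groth.Agent.Par.K147.Ord
import Mathlib.Algebra.Group.Subgroup.Order

/-!
# One-parameter subgroups approximating a homomorphism from `D(Γ)`, `Γ` totally ordered
-/

set_option autoImplicit false
set_option linter.unusedSectionVars false

universe u

open CategoryTheory MonoidalCategory CartesianMonoidalCategory MonObj GrpObj AlgebraicGeometry Limits
open scoped LaurentPolynomial Polynomial TensorProduct
open WithConv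
open Groth.Agent.Books.AffBridge Groth.Agent.Books.DynBasic Groth.Agent.Books.DynLim

namespace K147.Dict

open Groth.Agent.Sga3B Groth.Agent.Sga3B.Parab Groth.Agent.Sga3B.Parab.Chart998 Groth.Agent.Sga3B.RG
  Groth.Agent.Sga3B.Parab.OrbM156 Groth.Agent.Sga3B.Parab.Rep998

section qt

variable {S : Scheme.{u}} {G : Over S} [GrpObj G] {N M : Type} [AddCommGroup N] [AddCommGroup M]
  (φ : N →+ M) (J : Red.DS S N ⟶ G) [IsMonHom J]

/-- composition with the homomorphism attached to `φ` -/
noncomputable abbrev dm : Red.DS S M ⟶ G := Red.DSmap S φ ≫ J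

instance isMonHom_dm : IsMonHom (dm φ J) := by
  have := isMonHom_DSmap (S := S) φ
  infer_instance

section chart

variable {R : Type u} [CommRing R] {r : Spec (CommRingCat.of R) ⟶ S}
variable {A : Type u} [CommRing A] [HopfAlgebra R A] (e : Red.bc r G ≅ SpecOver R A) [IsMonHom e.hom]
variable {C : Type u} [CommRing C] [Algebra R C]

lemma tau_dm (χ : Multiplicative M →* C) : ConjGrade.tau (piB (dm φ J) e) χ =
    ConjGrade.tau (piB J e) (χ.comp (AddMonoidHom.toMultiplicative φ)) := by
  apply WithConv.ofConv_injective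
  have hc : Spec.map (CommRingCat.ofHom (algebraMap R C)) ≫ r =
    Spec.map (CommRingCat.ofHom (algebraMap R C)) ≫ r := rfl
  apply (pt_bijective e hc).1
  rw [pt_tau, pt_tau, ← Category.assoc, DSPts.dsEquiv_DSmap]
  rfl

lemma gr_dm {n : Multiplicative N} {a : A} (ha : a ∈ ConjGrade.gr (piB J e) n) :
    a ∈ ConjGrade.gr (piB (dm φ J) e) (AddMonoidHom.toMultiplicative φ n) := by
  rw [ConjGrade.mem_gr]
  change (ConjGrade.tau (piB (dm φ J) e) (MonoidAlgebra.of A (Multiplicative M)) *
    toConv (MonoidAlgebra.singleOneAlgHom (R := R) (A := A) (M := Multiplicative M)) *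
    (ConjGrade.tau (piB (dm φ J) e) (MonoidAlgebra.of A (Multiplicative M)))⁻¹).ofConv a = _
  rw [tau_dm, ConjGrade.conj_apply_of_mem _ ha]
  change MonoidAlgebra.single 1 a * MonoidAlgebra.single _ (1 : A) = _
  rw [MonoidAlgebra.single_mul_single, _root_.one_mul, _root_.mul_one]

lemma kills_dm_iff (T : Submonoid (Multiplicative M)) (g : A →ₐ[R] C) :
    (∀ m ∉ T, ∀ a ∈ ConjGrade.gr (piB (dm φ J) e) m, g a = 0) ↔
      ∀ n ∉ T.comap (AddMonoidHom.toMultiplicative φ), ∀ a ∈ ConjGrade.gr (piB J e) n, g a = 0 := by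
  classical
  constructor
  · intro h n hn a ha
    exact h _ (fun h' => hn (Submonoid.mem_comap.2 h')) a (gr_dm φ J e ha)
  · intro h m hm a ha
    have h1 : a = ∑ n ∈ (ConjGrade.rho (piB J e) a).coeff.support,
        if AddMonoidHom.toMultiplicative φ n = m then ConjGrade.pr (piB J e) n a else 0 := by
      conv_lhs => rw [← ConjGrade.pr_of_mem_same (piB (dm φ J) e) ha,
        ← ConjGrade.sum_pr' (piB J e) a, map_sum]
      refine Finset.sum_congr rfl fun n _ => ?_
      have h2 := gr_dm φ J e (ConjGrade.pr_mem_gr (piB J e) n a)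
      split_ifs with hn
      · subst hn
        exact ConjGrade.pr_of_mem_same _ h2
      · exact ConjGrade.pr_of_mem_ne _ h2 hn
    rw [h1, map_sum]
    refine Finset.sum_eq_zero fun n _ => ?_
    split_ifs with hn
    · refine h n (fun h' => hm ?_) _ (ConjGrade.pr_mem_gr (piB J e) n a)
      rw [← hn]
      exact Submonoid.mem_comap.1 h'
    · exact map_zero _

end chart

variable {C : Type u} [CommRing C] {c : Spec (CommRingCat.of C) ⟶ S}

/-- **The condition `QT` for a composite homomorphism.** -/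
theorem qt_dm_iff [IsAffineHom G.hom] (T : Submonoid (Multiplicative M)) (g : aff C c ⟶ G) :
    QT (dm φ J) C c T g ↔ QT J C c (T.comap (AddMonoidHom.toMultiplicative φ)) g := by
  obtain ⟨A, _, _, e, _⟩ := exists_chart (G := G) c
  obtain ⟨g, rfl⟩ := (pt_bijective e (hcR (r := c))).2 g
  rw [qt_pt_iff, qt_pt_iff, kills_dm_iff]

theorem ptT_dm_iff [IsAffineHom G.hom] (T : Submonoid (Multiplicative M)) {X : Over S} (g : X ⟶ G) :
    PtT (dm φ J) T g ↔ PtT J (T.comap (AddMonoidHom.toMultiplicative φ)) g := by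
  unfold PtT
  simp only [qt_dm_iff]

end qt

section ord

/-- the non-negative elements -/
def pos (Γ : Type) [AddCommGroup Γ] [LinearOrder Γ] [IsOrderedAddMonoid Γ] : AddSubmonoid Γ where
  carrier := {m | 0 ≤ m}
  zero_mem' := le_refl _
  add_mem' := add_nonneg

variable {Γ : Type} [AddCommGroup Γ] [LinearOrder Γ] [IsOrderedAddMonoid Γ]

lemma mem_pos {m : Γ} : m ∈ pos Γ ↔ 0 ≤ m := Iff.rfl

lemma comap_pos (Γ₀ : AddSubgroup Γ) : (AddSubmonoid.toSubmonoid (pos Γ)).comap
    (AddMonoidHom.toMultiplicative Γ₀.subtype) = AddSubmonoid.toSubmonoid (pos Γ₀) := by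
  ext m
  exact Iff.rfl

lemma comap_bot (Γ₀ : AddSubgroup Γ) : (⊥ : Submonoid (Multiplicative Γ)).comap
    (AddMonoidHom.toMultiplicative Γ₀.subtype) = ⊥ := by
  ext m
  rw [Submonoid.mem_comap, Submonoid.mem_bot, Submonoid.mem_bot]
  constructor
  · intro h
    have h1 : (Γ₀.subtype m.toAdd) = 0 := congrArg Multiplicative.toAdd h
    have h2 : m.toAdd = 0 := Subtype.ext h1
    exact congrArg Multiplicative.ofAdd h2
  · rintro rfl
    rfl

end ord

section comm

variable {S : Scheme.{u}} {M : Type} [AddCommGroup M]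

lemma ds_mul_comm {X : Over S} (x y : X ⟶ Red.DS S M) : x * y = y * x := by
  rw [← DSPts.dsEquiv_dsChar (x * y), ← DSPts.dsEquiv_dsChar (y * x), DSPts.dsChar_mul,
    DSPts.dsChar_mul, mul_comm]

end comm

section main

variable {R : Type u} [CommRing R] {Γ : Type} [AddCommGroup Γ] [LinearOrder Γ] [IsOrderedAddMonoid Γ]
  {G : Over (Spec (CommRingCat.of R))} [GrpObj G] [IsAffineHom G.hom] [LocallyOfFiniteType G.hom]

/-- **Approximation by a one-parameter subgroup.**  For a homomorphism `f : D(Γ) ⟶ G` there is a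
one-parameter subgroup `lam` of `G` commuting with `f` such that `P_G(lam)` and `Z_G(lam)` are given by the
non-negative and trivial weights of `f`. -/
theorem exists_lam (f : Red.DS (Spec (CommRingCat.of R)) Γ ⟶ G) [IsMonHom f] :
    ∃ lam : Red.Gm (Spec (CommRingCat.of R)) ⟶ G, IsMonHom lam ∧
      (∀ (X : Over (Spec (CommRingCat.of R))) (g : X ⟶ G),
        PtT f (AddSubmonoid.toSubmonoid (pos Γ)) g ↔ PtP lam g) ∧
      (∀ (X : Over (Spec (CommRingCat.of R))) (g : X ⟶ G), PtT f ⊥ g ↔ PtZ lam g) ∧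
      (∀ (X : Over (Spec (CommRingCat.of R))) (x : X ⟶ Red.Gm (Spec (CommRingCat.of R)))
        (y : X ⟶ Red.DS (Spec (CommRingCat.of R)) Γ), (x ≫ lam) * (y ≫ f) = (y ≫ f) * (x ≫ lam)) := by
  obtain ⟨Γ₀, hfg, J, hJ, rfl⟩ := K147.Fact.exists_factor f
  let r : Spec (CommRingCat.of R) ⟶ Spec (CommRingCat.of R) := 𝟙 _
  obtain ⟨A, _, _, e, _⟩ := exists_chart (G := G) r
  have hft : Algebra.FiniteType R A := by
    have h1 : LocallyOfFiniteType (Spec.map (CommRingCat.ofHom (algebraMap R A))) := by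
      have h2 : LocallyOfFiniteType (Red.bc r G).hom := by
        change LocallyOfFiniteType (pullback.snd G.hom r)
        infer_instance
      have h3 : e.inv.left ≫ (Red.bc r G).hom = Spec.map (CommRingCat.ofHom (algebraMap R A)) := Over.w e.inv
      rw [← h3]
      have h4 : IsIso e.inv.left := inferInstanceAs (IsIso ((Over.forget _).map e.inv))
      have h5 : LocallyOfFiniteType e.inv.left := inferInstance
      exact MorphismProperty.comp_mem _ _ _ h5 h2
    have h2 := (HasRingHomProperty.Spec_iff (P := @LocallyOfFiniteType)).1 h1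
    exact RingHom.finiteType_algebraMap.1 h2
  obtain ⟨ν, hν⟩ := exists_nu_chart (J := J) (T := pos Γ₀) (fun F => K147.Ord.exists_int F) e
  have key : ∀ (X : Over (Spec (CommRingCat.of R))) (g : X ⟶ G) (C : Type u) [CommRing C]
      (c : Spec (CommRingCat.of C) ⟶ Spec (CommRingCat.of R)) (x : aff C c ⟶ X),
      (QT J C c (AddSubmonoid.toSubmonoid (pos Γ₀)) (x ≫ g) ↔ LimEx (lamN J ν) (x ≫ g)) ∧
      (QT J C c ⊥ (x ≫ g) ↔ OrbConst (lamN J ν) (x ≫ g)) := by
    intro X g C _ c x
    let ψ : R →+* C := (Spec.preimage c).hom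
    let _ : Algebra R C := ψ.toAlgebra
    have hc : Spec.map (CommRingCat.ofHom (algebraMap R C)) ≫ r = c := by
      rw [Category.comp_id]
      exact Spec.map_preimage c
    exact hν C c hc (x ≫ g)
  refine ⟨lamN J ν, inferInstance, fun X g => ?_, fun X g => ?_, fun X x y => ?_⟩
  · rw [ptT_dm_iff, comap_pos]
    exact forall_congr' fun C => forall_congr' fun _ => forall_congr' fun c => forall_congr' fun x =>
      (key X g C c x).1
  · rw [ptT_dm_iff, comap_bot]
    exact forall_congr' fun C => forall_congr' fun _ => forall_congr' fun c => forall_congr' fun x =>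
      (key X g C c x).2
  · have h1 : x ≫ lamN J ν = (x ≫ Red.DSmap _ ν) ≫ J := (Category.assoc _ _ _).symm
    have h2 : y ≫ Red.DSmap _ Γ₀.subtype ≫ J = (y ≫ Red.DSmap _ Γ₀.subtype) ≫ J :=
      (Category.assoc _ _ _).symm
    rw [h1, h2]
    have h3 := congrArg (fun z => z ≫ J) (ds_mul_comm (x ≫ Red.DSmap _ ν) (y ≫ Red.DSmap _ Γ₀.subtype))
    rwa [MonObj.mul_comp, MonObj.mul_comp] at h3

end main

end K147.Dict
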