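import Groth.Agent.LieWt.K929.ActSub
import Groth.Agent.Par.K147.Dict

/-!
# The grading attached to a homomorphism `f : D(M) ⟶ G` and the weights of the Lie algebra
-/

set_option autoImplicit false
set_option linter.unusedSectionVars false

universe u

open CategoryTheory MonoidalCategory CartesianMonoidalCategory MonObj GrpObj AlgebraicGeometry Limits

namespace K147.LieF

open Groth.Agent.Sga3B Cell PinMod DSPts GaPts RootCoact K929.LieDict K929.LieSplit K929.Act
  K929.ChartUni K929.ActSub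

variable {R : Type u} [CommRing R] {G : Over (Spec (CommRingCat.of R))} [GrpObj G]
  (c : Chart G (𝟙 (Spec (CommRingCat.of R)))) {M : Type} [AddCommGroup M]
  (f : Red.DS (Spec (CommRingCat.of R)) M ⟶ G) [IsMonHom f]
variable {B C : Type u} [CommRing B] [Algebra R B] [CommRing C] [Algebra R C]

/-- The action of `D(M)` on `G` by conjugation through `f`. -/
noncomputable def tact : TAct R c.A M where
  act {B} _ _ t g := tiPt c f B t * g * (tiPt c f B t)⁻¹
  nat φ t g := by
    rw [Pt.map_mul, Pt.map_mul, Pt.map_inv, tiPt_nat]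
  one g := by
    rw [_root_.map_one]
    group
  mulP {B} _ _ s t g := by
    have h : tiPt c f B (TPt.mulP s t) = tiPt c f B s * tiPt c f B t := _root_.map_mul (tiPt c f B) s t
    rw [h]
    group

lemma act_def (t : TPt M B) (g : Pt R c.A B) :
    (tact c f).act t g = tiPt c f B t * g * (tiPt c f B t)⁻¹ := rfl

lemma isAut : (tact c f).IsAut := by
  intro B _ _ t g h
  rw [act_def, act_def, act_def]
  group

/-- the point of `D(M)` with given coordinates -/
noncomputable def dPt (t : TPt M C) : VecGrp.pt R C ⟶ Red.DS (Spec (CommRingCat.of R)) M :=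
  (castP (str_eq R C)).inv ≫ dsEquiv (tB (𝟙 _) C) M (chΓ (𝟙 _) t)

lemma exists_dPt (t : VecGrp.pt R C ⟶ Red.DS (Spec (CommRingCat.of R)) M) :
    ∃ t' : TPt M C, t = dPt t' := by
  obtain ⟨t', ht'⟩ := exists_chΓ (𝟙 _) ((castP (str_eq R C)).hom ≫ t)
  refine ⟨t', ?_⟩
  rw [dPt, ← ht', Iso.inv_hom_id_assoc]

lemma pts_ti (t : TPt M C) : c.pts C (tiPt c f C t) = (castP (str_eq R C)).hom ≫ dPt t ≫ f := by
  rw [pts_tiPt, dPt, ← Category.assoc (castP (str_eq R C)).hom, Iso.hom_inv_id_assoc]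

/-- the value of a character -/
lemma chiVal_dPt (m : M) (t : TPt M C) :
    VecGrp.chiVal (Red.chi (Spec (CommRingCat.of R)) m) (dPt t) = TPt.ch m t := by
  unfold VecGrp.chiVal
  have h1 : dPt t ≫ Red.chi (Spec (CommRingCat.of R)) m =
      (castP (str_eq R C)).inv ≫ dsEquiv (tB (𝟙 _) C) M (chΓ (𝟙 _) t) ≫ Red.chi _ m := by
    rw [dPt, Category.assoc]
  rw [h1, Groth.Agent.Sga3.H811.Pts.gmFn_comp, gmFn_chi, dsChar_dsEquiv, chΓ_apply]
  have h2 : (castP (str_eq R C)).inv.left = 𝟙 _ := rfl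
  rw [h2, Scheme.Hom.id_appTop]
  change ((Scheme.ΓSpecIso (CommRingCat.of C)).inv ≫ (Scheme.ΓSpecIso (CommRingCat.of C)).hom) _ = _
  rw [Iso.inv_hom_id]
  rfl

/-- **Weight spaces in a chart.** -/
theorem mem_weightSpOf_iff (m : M) (x : LieS.LieR G B) :
    x ∈ LieWt.weightSpOf f (Red.chi (Spec (CommRingCat.of R)) m) B ↔
      (tact c f).IsWt m (infR c B x) := by
  unfold LieWt.weightSpOf
  rw [LieWt.mem_weightSp_iff]
  constructor
  · intro h C _ _ φ t
    have h1 := h C φ (dPt t)
    rw [chiVal_dPt] at h1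
    have h2 := (weight_cond c f x φ (dPt t) _ _ (pts_ti c f t)).mp h1
    rw [act_def, ← tiPt_nat]
    exact h2
  · intro h C _ _ φ t
    obtain ⟨t', rfl⟩ := exists_dPt t
    rw [chiVal_dPt]
    have h2 := h C φ t'
    rw [act_def, ← tiPt_nat] at h2
    exact (weight_cond c f x φ (dPt t') _ _ (pts_ti c f t')).mpr h2

end K147.LieF
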