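import Groth.Agent.Par.K147.CotLie
import Groth.Agent.Par.K546.DimPar
import Groth.Prelude.Def_LieS

/-!
# Inclusions of smooth groups with the same Lie algebra

`i : H ⟶ Q` a closed immersion of smooth `S`-groups, `Q` affine with connected geometric fibres.  If all
tangent vectors at the unit of the fibres of `Q` come from `H` then `i` is an isomorphism.
-/

set_option autoImplicit false
set_option linter.unusedSectionVars false

universe u

open CategoryTheory MonoidalCategory CartesianMonoidalCategory MonObj GrpObj AlgebraicGeometry Limits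
open WithConv
open Groth.Agent Groth.Agent.Books.AffBridge Groth.Agent.Books.AffBridge2

namespace K147.LieIso

open Groth.Agent.Sga3B

variable {S : Scheme.{u}}

section field

variable {K : Type u} [Field K] (x : Spec (CommRingCat.of K) ⟶ S)

/-- the dual numbers as a scheme over `S` -/
noncomputable def dEquiv (Q : Over S) [GrpObj Q] :
    (LieS.dpt K x ⟶ Q) ≃* (SpecOver K (DualNumber K) ⟶ Red.bc x Q) :=
  DSPts.bcEquiv x (SpecOver K (DualNumber K)) Q

lemma dEquiv_comp {H Q : Over S} [GrpObj H] [GrpObj Q] (i : H ⟶ Q) (v : LieS.dpt K x ⟶ H) :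
    dEquiv x H v ≫ (Over.pullback x).map i = dEquiv x Q (v ≫ i) :=
  DSPts.bcEquiv_comp x (SpecOver K (DualNumber K)) v i

lemma zeroSec_dEquiv_symm {Q : Over S} [GrpObj Q] (g : SpecOver K (DualNumber K) ⟶ Red.bc x Q) :
    (LieS.zeroSec K x ≫ (dEquiv x Q).symm g).left =
      (specMap K (TrivSqZeroExt.fstHom K K K) ≫ g).left ≫ pullback.fst Q.hom x := by
  rw [Over.comp_left]
  have h : ((dEquiv x Q).symm g).left = g.left ≫ pullback.fst Q.hom x :=
    DSPts.bcEquiv_symm_left x (SpecOver K (DualNumber K)) Q g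
  rw [h, Over.comp_left, Category.assoc]
  rfl

lemma one_left {Q : Over S} [GrpObj Q] :
    (1 : LieS.pt K x ⟶ Q).left = (1 : SpecOver K K ⟶ Red.bc x Q).left ≫ pullback.fst Q.hom x := by
  let e : LieS.pt K x ⟶ (Over.map x).obj (SpecOver K K) := Over.homMk (𝟙 _) (by
    change 𝟙 _ ≫ Spec.map (CommRingCat.ofHom (algebraMap K K)) ≫ x = x
    have h1 : CommRingCat.ofHom (algebraMap K K) = 𝟙 _ := rfl
    rw [h1, Spec.map_id, Category.id_comp, Category.id_comp])
  have h1 : (1 : LieS.pt K x ⟶ Q) = e ≫ (DSPts.bcEquiv x (SpecOver K K) Q).symm 1 := by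
    rw [map_one, MonObj.comp_one]
  rw [h1, Over.comp_left, DSPts.bcEquiv_symm_left]
  change 𝟙 _ ≫ _ = _
  rw [Category.id_comp]

variable {H Q : Over S} [GrpObj H] [GrpObj Q] (i : H ⟶ Q) [IsMonHom i] [IsClosedImmersion i.left]
  [Smooth H.hom] [Smooth Q.hom] [IsAffineHom Q.hom]

/-- **The criterion on a fibre.** -/
theorem isIso_fibre (hint : IsIntegral (Red.bc x Q).left)
    (hL : ∀ w : LieS.dpt K x ⟶ Q, LieS.zeroSec K x ≫ w = 1 → ∃ v : LieS.dpt K x ⟶ H, v ≫ i = w) :
    IsIso ((Over.pullback x).map i) := by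
  have hQa : IsAffineHom (Red.bc x Q).hom := inferInstanceAs (IsAffineHom (pullback.snd Q.hom _))
  have hHa : IsAffineHom H.hom := by
    rw [← Over.w i]
    infer_instance
  have hHa' : IsAffineHom (Red.bc x H).hom := inferInstanceAs (IsAffineHom (pullback.snd H.hom _))
  have hQs : Smooth (Red.bc x Q).hom := inferInstanceAs (Smooth (pullback.snd Q.hom _))
  have hHs : Smooth (Red.bc x H).hom := inferInstanceAs (Smooth (pullback.snd H.hom _))
  have h1 : IsAffine (Red.bc x Q).left := isAffine_of_isAffineHom (Red.bc x Q).hom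
  have h2 : IsAffine (Red.bc x H).left := isAffine_of_isAffineHom (Red.bc x H).hom
  obtain ⟨B₂, _, _, e₂, he₂⟩ := exists_hopf K (Red.bc x Q)
  obtain ⟨B₁, _, _, e₁, he₁⟩ := exists_hopf K (Red.bc x H)
  have he₁' : IsMonHom e₁.inv := inferInstance
  let iK : Red.bc x H ⟶ Red.bc x Q := (Over.pullback x).map i
  have hiK : IsMonHom iK := inferInstanceAs (IsMonHom ((Over.pullback x).map i))
  have hcl : IsClosedImmersion iK.left :=
    MorphismProperty.of_isPullback (Parab.FibIsoSch.isPullback_map_left x i) inferInstance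
  have hi2 : IsIso e₂.hom.left := (Over.forget _).map_isIso e₂.hom
  have hi1 : IsIso e₁.inv.left := (Over.forget _).map_isIso e₁.inv
  have hi3 : IsIso e₂.inv.left := (Over.forget _).map_isIso e₂.inv
  obtain ⟨φ, hφ⟩ := exists_bialgHom_of_isMonHom K (e₁.inv ≫ iK ≫ e₂.hom)
  have hsurj : Function.Surjective (φ : B₂ →ₐ[K] B₁) := by
    rw [← isClosedImmersion_specMap_iff K (φ : B₂ →ₐ[K] B₁), hφ, Over.comp_left, Over.comp_left]
    infer_instance
  -- algebraic properties
  have hsm₂ : Smooth (SpecOver K B₂).hom := by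
    rw [← Over.w e₂.inv]
    infer_instance
  have hsm₁ : Smooth (SpecOver K B₁).hom := by
    rw [← Over.w e₁.inv]
    infer_instance
  have hS₁ : Algebra.Smooth K B₁ := (smooth_specOver_iff K B₁).1 hsm₁
  have hS₂ : Algebra.Smooth K B₂ := (smooth_specOver_iff K B₂).1 hsm₂
  have hft : Algebra.FiniteType K B₂ := inferInstance
  have hdom : IsDomain B₂ := by
    have h3 : IsIntegral (SpecOver K B₂).left := by
      have h4 : (Red.bc x Q).left ≅ (SpecOver K B₂).left := (Over.forget _).mapIso e₂
      have : Nonempty (SpecOver K B₂).left := ⟨h4.hom (Nonempty.some hint.nonempty)⟩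
      exact isIntegral_of_isOpenImmersion h4.inv
    exact (affine_isIntegral_iff (CommRingCat.of B₂)).1 h3
  have hinj : Function.Injective (φ : B₂ →ₐ[K] B₁) := by
    refine CotLie.injective (φ : B₂ →ₐ[K] B₁) hsurj (Bialgebra.counitAlgHom K B₁) fun D hD => ?_
    have hD' : (TrivSqZeroExt.fstHom K K K).comp D = Bialgebra.counitAlgHom K B₂ := by
      refine AlgHom.ext fun a => ?_
      refine (hD a).trans ?_
      exact CoalgHomClass.counit_comp_apply φ a
    let w : LieS.dpt K x ⟶ Q := (dEquiv x Q).symm (specMap K D ≫ e₂.inv)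
    have hw : LieS.zeroSec K x ≫ w = 1 := by
      ext1
      rw [zeroSec_dEquiv_symm, one_left, ← Category.assoc (specMap K _), ← specMap_comp, hD']
      congr 2
      have h3 : specMap K (Bialgebra.counitAlgHom K B₂) = 1 := specMap_one K (A := B₂) (R := K)
      rw [h3]
      exact MonObj.one_comp e₂.inv
    obtain ⟨v, hv⟩ := hL w hw
    have h3 : dEquiv x H v ≫ iK = specMap K D ≫ e₂.inv := by
      change dEquiv x H v ≫ (Over.pullback x).map i = _
      rw [dEquiv_comp, hv]
      exact (dEquiv x Q).apply_symm_apply _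
    let D₁ : B₁ →ₐ[K] DualNumber K := specPreimage K (dEquiv x H v ≫ e₁.hom)
    have h4 : D = D₁.comp (φ : B₂ →ₐ[K] B₁) := by
      apply specMap_injective K
      rw [specMap_comp, hφ, specMap_specPreimage]
      simp only [Category.assoc, Iso.hom_inv_id_assoc]
      rw [← Category.assoc, h3, Category.assoc, e₂.inv_hom_id, Category.comp_id]
    intro a ha
    rw [h4, AlgHom.comp_apply, ha, map_zero]
    rfl
  have h5 : IsIso (specMap K (φ : B₂ →ₐ[K] B₁)) := by
    let ε := AlgEquiv.ofBijective (φ : B₂ →ₐ[K] B₁) ⟨hinj, hsurj⟩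
    refine ⟨specMap K (ε.symm : B₁ →ₐ[K] B₂), ?_, ?_⟩
    · rw [← specMap_comp, ← specMap_id]
      congr 1
      exact AlgHom.ext fun b => ε.apply_symm_apply b
    · rw [← specMap_comp, ← specMap_id]
      congr 1
      exact AlgHom.ext fun b => ε.symm_apply_apply b
  have h6 : iK = e₁.hom ≫ specMap K (φ : B₂ →ₐ[K] B₁) ≫ e₂.inv := by
    rw [hφ]
    simp
  change IsIso iK
  rw [h6]
  infer_instance

end field

variable {H Q : Over S} [GrpObj H] [GrpObj Q] (i : H ⟶ Q) [IsMonHom i] [IsClosedImmersion i.left]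
  [Smooth H.hom] [Smooth Q.hom] [IsAffineHom Q.hom]

/-- **Inclusions of smooth groups with the same tangent vectors at the unit are isomorphisms.** -/
theorem isIso_of_lie (hQ : ∀ s : S, ConnectedSpace (Red.geomFibre s Q).left)
    (hL : ∀ (K : Type u) [Field K] (x : Spec (CommRingCat.of K) ⟶ S) (w : LieS.dpt K x ⟶ Q),
      LieS.zeroSec K x ≫ w = 1 → ∃ v : LieS.dpt K x ⟶ H, v ≫ i = w) : IsIso i := by
  refine Parab.FibIsoSch.isIso_of_fibres i fun s =>
    ⟨AlgebraicClosure (S.residueField s), inferInstance, Red.geomPt s, ?_, ?_⟩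
  · exact Scheme.fromSpecResidueField_apply s _
  · exact isIso_fibre (Red.geomPt s) i (Parab.IrrFib.isIntegral_fibre Q hQ (Red.geomPt s))
      (hL _ (Red.geomPt s))

end K147.LieIso
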