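import Groth.Agent.Par.K147.LieF

/-!
# The orbit condition `QT` in a chart given by points
-/

set_option autoImplicit false
set_option linter.unusedSectionVars false

universe u

open CategoryTheory MonoidalCategory CartesianMonoidalCategory MonObj GrpObj AlgebraicGeometry Limits

namespace K147.LieQ

open Groth.Agent.Sga3B Cell PinMod DSPts GaPts RootCoact K929.LieDict K929.LieSplit K929.Act
  K929.ChartUni K929.ActSub K147.LieF
open Groth.Agent.Sga3B.Parab Groth.Agent.Sga3B.Parab.OrbM156

section gen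

variable {S : Scheme.{u}} {R : Type u} [CommRing R] {s : Spec (CommRingCat.of R) ⟶ S}
variable {B B' : Type u} [CommRing B] [Algebra R B] [CommRing B'] [Algebra R B']
variable {f : Spec (CommRingCat.of B) ⟶ S} {f' : Spec (CommRingCat.of B') ⟶ S}

lemma castP_comp (hf : f = Spec.map (CommRingCat.ofHom (algebraMap R B)) ≫ s)
    (hf' : f' = Spec.map (CommRingCat.ofHom (algebraMap R B')) ≫ s)
    (x : LieS.pt B' f' ⟶ LieS.pt B f) (φ : B →ₐ[R] B')
    (hx : x.left = Spec.map (CommRingCat.ofHom (φ : B →+* B'))) :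
    (castP hf').hom ≫ x = tMap s φ ≫ (castP hf).hom := by
  ext1
  rw [Over.comp_left, Over.comp_left, hx]
  change 𝟙 _ ≫ _ = Spec.map _ ≫ 𝟙 _
  rw [Category.id_comp, Category.comp_id]

lemma castP_dsEquiv {M : Type} [AddCommGroup M]
    (hf : f = Spec.map (CommRingCat.ofHom (algebraMap R B)) ≫ s)
    (t : TPt M B) (χ : Multiplicative M →* Γ((LieS.pt B f).left, ⊤))
    (hχ : ∀ m, χ m = (Scheme.ΓSpecIso (CommRingCat.of B)).inv.hom (t m : B)) :
    (castP hf).hom ≫ dsEquiv (LieS.pt B f) M χ = dsEquiv (tB s B) M (chΓ s t) := by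
  rw [dsEquiv_naturality]
  congr 1
  refine MonoidHom.ext fun n => ?_
  change (castP hf).hom.left.appTop.hom (χ n) = _
  rw [hχ n]
  have h2 : (castP hf).hom.left = 𝟙 _ := rfl
  rw [h2, Scheme.Hom.id_appTop]
  rfl

end gen

section kap

variable (R : Type u) [CommRing R] (C : Type u) [CommRing C] [Algebra R C]

/-- the structure map of an `R`-algebra -/
noncomputable abbrev st : Spec (CommRingCat.of C) ⟶ Spec (CommRingCat.of R) :=
  Spec.map (CommRingCat.ofHom (algebraMap R C)) ≫ 𝟙 _

lemma st_eq (N : Type) [CommMonoid N] :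
    Spec.map (CommRingCat.ofHom (algebraMap C (MonoidAlgebra C N))) ≫ st R C =
      Spec.map (CommRingCat.ofHom (algebraMap R (MonoidAlgebra C N))) ≫ 𝟙 _ := by
  have h := IsScalarTower.algebraMap_eq R C (MonoidAlgebra C N)
  rw [h, CommRingCat.ofHom_comp (algebraMap R C) (algebraMap C (MonoidAlgebra C N)), Spec.map_comp,
    Category.assoc]

/-- `Spec C[N]` over `R` in two ways -/
noncomputable def kap (N : Type) [CommMonoid N] :
    tB (𝟙 (Spec (CommRingCat.of R))) (MonoidAlgebra C N) ≅ mon N C (st R C) :=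
  castP (st_eq R C N)

lemma kap_mPr (N : Type) [CommMonoid N] : (kap R C N).hom ≫ mPr N C (st R C) =
    tMap (𝟙 _) (IsScalarTower.toAlgHom R C (MonoidAlgebra C N)) := by
  have h := castP_comp (s := 𝟙 _) (B := C) (B' := MonoidAlgebra C N) (f := st R C) rfl (st_eq R C N)
    (mPr N C (st R C)) (IsScalarTower.toAlgHom R C (MonoidAlgebra C N)) rfl
  refine h.trans ?_
  have h1 : (castP (s := 𝟙 _) (f := st R C) rfl).hom = 𝟙 _ := rfl
  rw [h1, Category.comp_id]

variable {M : Type} [AddCommGroup M]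

lemma kap_toT (T : Submonoid (Multiplicative M)) :
    (kap R C (Multiplicative M)).hom ≫ toT C (st R C) T = tMap (𝟙 _) (incl R C T) ≫ (kap R C T).hom :=
  castP_comp (s := 𝟙 _) (B := MonoidAlgebra C T) (B' := MonoidAlgebra C (Multiplicative M))
    (st_eq R C T) (st_eq R C (Multiplicative M)) (toT C (st R C) T) (incl R C T) rfl

lemma kap_mPt : (kap R C (Multiplicative M)).hom ≫ mPt C (st R C) =
    dsEquiv (tB (𝟙 _) (MA M C)) M (chΓ (𝟙 _) (uT M C)) :=
  castP_dsEquiv (s := 𝟙 _) (B := MonoidAlgebra C (Multiplicative M)) (st_eq R C (Multiplicative M))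
    (uT M C) (mChar C (st R C)) (fun _ => rfl)

end kap

variable {R : Type u} [CommRing R] {G : Over (Spec (CommRingCat.of R))} [GrpObj G]
  (c : Chart G (𝟙 (Spec (CommRingCat.of R)))) {M : Type} [AddCommGroup M]
  (f : Red.DS (Spec (CommRingCat.of R)) M ⟶ G) [IsMonHom f]
variable {C : Type u} [CommRing C] [Algebra R C]

lemma orbM_pts (g : Pt R c.A C) : (kap R C (Multiplicative M)).hom ≫
    orbM (c := st R C) f (c.pts C g) = c.pts _ ((tact c f).orb g) := by
  have h1 : (tact c f).orb g = tiPt c f _ (uT M C) * Pt.map (cM R M C) g * (tiPt c f _ (uT M C))⁻¹ := rfl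
  rw [h1, _root_.map_mul, _root_.map_mul, _root_.map_inv, pts_tiPt, ← c.pts_nat, orbM, MonObj.comp_mul,
    MonObj.comp_mul, GrpObj.comp_inv, ← Category.assoc, ← Category.assoc, kap_mPt, kap_mPr]
  rfl

lemma orb_of_mem (g : Pt R c.A C) {m : M} {a : c.A} (ha : a ∈ gr (tact c f).coact m) :
    ((tact c f).orb g).hom a = MonoidAlgebra.single (Multiplicative.ofAdd m) (g.hom a) := by
  rw [TAct.orb_hom_apply]
  have h : (tact c f).rho a = MonoidAlgebra.single (Multiplicative.ofAdd m) a := ha
  rw [h, mM_single]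

lemma incl_single (T : Submonoid (Multiplicative M)) (m : Multiplicative M) (hm : m ∈ T) (b : C) :
    incl R C T (MonoidAlgebra.single ⟨m, hm⟩ b) = MonoidAlgebra.single m b :=
  MonoidAlgebra.mapDomain_single

lemma exists_map_of_range (T : Submonoid (Multiplicative M)) (g : Pt R c.A (MonoidAlgebra C (Multiplicative M)))
    (h1 : ∀ a, g.hom a ∈ (incl R C T).range) :
    ∃ h' : Pt R c.A (MonoidAlgebra C T), Pt.map (incl R C T) h' = g := by
  let e := AlgEquiv.ofInjective (incl R C T) (incl_injective T)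
  let h' : Pt R c.A (MonoidAlgebra C T) := Pt.mk ((e.symm : _ →ₐ[R] MonoidAlgebra C T).comp
    (g.hom.codRestrict _ h1))
  refine ⟨h', Pt.ext fun a => ?_⟩
  have h2 := e.apply_symm_apply (g.hom.codRestrict _ h1 a)
  exact congrArg Subtype.val h2

lemma exists_map_incl_iff (T : Submonoid (Multiplicative M)) (g : Pt R c.A C) :
    (∃ h' : Pt R c.A (MonoidAlgebra C T), Pt.map (incl R C T) h' = (tact c f).orb g) ↔
      ∀ m : M, Multiplicative.ofAdd m ∉ T → ∀ a ∈ gr (tact c f).coact m, g.hom a = 0 := by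
  constructor
  · rintro ⟨h', h1⟩ m hm a ha
    have h2 := orb_of_mem c f g ha
    rw [← h1, Pt.map_hom_apply] at h2
    have h3 := coeff_incl (R := R) T (h'.hom a) hm
    rw [h2, MonoidAlgebra.coeff_single, Finsupp.single_eq_same] at h3
    exact h3
  · intro H
    apply exists_map_of_range
    intro a
    induction a using induction_gr (tact c f).coact with
    | h0 => rw [map_zero]; exact zero_mem _
    | hadd a b ha hb => rw [map_add]; exact add_mem ha hb
    | h m a ha =>
      rw [orb_of_mem c f g ha]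
      by_cases hm : Multiplicative.ofAdd m ∈ T
      · exact ⟨MonoidAlgebra.single ⟨Multiplicative.ofAdd m, hm⟩ (g.hom a), incl_single T _ hm _⟩
      · rw [H m hm a ha, MonoidAlgebra.single_zero]
        exact zero_mem _

lemma kap_toT_pts (T : Submonoid (Multiplicative M)) (h' : Pt R c.A (MonoidAlgebra C T)) :
    (kap R C (Multiplicative M)).hom ≫ toT C (st R C) T ≫ (kap R C T).inv ≫ c.pts _ h' =
      c.pts _ (Pt.map (incl R C T) h') := by
  rw [← Category.assoc, kap_toT, Category.assoc, Iso.hom_inv_id_assoc, c.pts_nat]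

lemma qt_iff_exists (T : Submonoid (Multiplicative M)) (g : Pt R c.A C) :
    QT f C (st R C) T (c.pts C g) ↔
      ∃ h' : Pt R c.A (MonoidAlgebra C T), Pt.map (incl R C T) h' = (tact c f).orb g := by
  constructor
  · rintro ⟨h, hh⟩
    refine ⟨(c.pts _).symm ((kap R C T).hom ≫ h), ?_⟩
    apply (c.pts _).injective
    rw [← kap_toT_pts, MulEquiv.apply_symm_apply, Iso.inv_hom_id_assoc, hh, orbM_pts]
  · rintro ⟨h', h2⟩
    refine ⟨(kap R C T).inv ≫ c.pts _ h', ?_⟩
    rw [← cancel_epi (kap R C (Multiplicative M)).hom, kap_toT_pts, h2, orbM_pts]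

/-- **The condition `QT` in a chart.** -/
theorem qt_pts_iff (T : Submonoid (Multiplicative M)) (g : Pt R c.A C) :
    QT f C (st R C) T (c.pts C g) ↔
      ∀ m : M, Multiplicative.ofAdd m ∉ T → ∀ a ∈ gr (tact c f).coact m, g.hom a = 0 := by
  rw [qt_iff_exists, exists_map_incl_iff]

end K147.LieQ
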