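import Groth.Agent.Par.K147.LieQ

/-!
# The Lie algebra of the subgroup of the non-negative weights
-/

set_option autoImplicit false
set_option linter.unusedSectionVars false

universe u

open CategoryTheory MonoidalCategory CartesianMonoidalCategory MonObj GrpObj AlgebraicGeometry Limits

namespace K147.LieSup

open Groth.Agent.Sga3B Cell PinMod DSPts GaPts RootCoact K929.LieDict K929.LieSplit K929.Act
  K929.ChartUni K929.ActSub K147.LieF K147.LieQ
open Groth.Agent.Sga3B.Parab Groth.Agent.Sga3B.Parab.OrbM156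

section inf

variable {R A B : Type u} [CommRing R] [CommRing A] [Algebra R A] [PtGrp R A] [CommRing B] [Algebra R B]

lemma snd_inv {g : Pt R A (DualNumber B)} (hg : g ∈ infP R A B) (a : A) :
    ((g⁻¹).hom a).snd = -(g.hom a).snd := by
  have h1 := snd_mul hg (inv_mem hg) a
  rw [mul_inv_cancel, K929.Act.TAct.snd_one_hom] at h1
  exact (neg_eq_of_add_eq_zero_right h1.symm).symm

end inf

section

variable {R : Type u} [CommRing R] {G : Over (Spec (CommRingCat.of R))} [GrpObj G]
  (c : Chart G (𝟙 (Spec (CommRingCat.of R)))) {M : Type} [AddCommGroup M]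
  (f : Red.DS (Spec (CommRingCat.of R)) M ⟶ G) [IsMonHom f]
variable {B : Type u} [CommRing B] [Algebra R B]

/-- the component of weight `m` of `x` vanishes -/
def K (x : LieS.LieR G B) (m : M) : Prop :=
  ∀ a ∈ gr (tact c f).coact m, ((infR c B x).hom a).snd = 0

lemma K.mul {x y : LieS.LieR G B} {m : M} (hx : K c f x m) (hy : K c f y m) : K c f (x * y) m := by
  intro a ha
  rw [_root_.map_mul, snd_mul (infR_mem c x) (infR_mem c y), hx a ha, hy a ha, add_zero]

lemma K.inv {x : LieS.LieR G B} {m : M} (hx : K c f x m) : K c f x⁻¹ m := by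
  intro a ha
  rw [_root_.map_inv, snd_inv (infR_mem c x), hx a ha, neg_zero]

lemma mem_weightSpOf_iff_K (m : M) (x : LieS.LieR G B) :
    x ∈ LieWt.weightSpOf f (Red.chi (Spec (CommRingCat.of R)) m) B ↔ ∀ n, n ≠ m → K c f x n := by
  have hE : (tact c f).IsAut := isAut c f
  rw [mem_weightSpOf_iff c f, hE.isWt_iff (infR_mem c x)]
  rfl

/-- the component of weight `m` -/
lemma exists_comp (x : LieS.LieR G B) (m : M) : ∃ y : LieS.LieR G B,
    y ∈ LieWt.weightSpOf f (Red.chi (Spec (CommRingCat.of R)) m) B ∧ K c f (x * y⁻¹) m ∧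
      (K c f x m → y = 1) := by
  have hE : (tact c f).IsAut := isAut c f
  obtain ⟨y, hy⟩ := exists_infR c (hE.comp_mem m (infR_mem c x))
  refine ⟨y, ?_, ?_, ?_⟩
  · rw [mem_weightSpOf_iff c f, hy]
    exact hE.isWt_comp m (infR_mem c x)
  · intro a ha
    rw [_root_.map_mul, _root_.map_inv, snd_mul (infR_mem c x) (inv_mem (infR_mem c y)),
      snd_inv (infR_mem c y), hy, hE.snd_comp, pr_of_mem_same _ ha, add_neg_cancel]
  · intro h
    apply infR_injective c
    rw [hy, _root_.map_one]
    exact (hE.comp_eq_one_iff (infR_mem c x)).mpr h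

/-- Only finitely many weights occur. -/
lemma exists_finset [Algebra.FiniteType R c.A] : ∃ F : Finset M,
    ∀ (B : Type u) [CommRing B] [Algebra R B] (x : LieS.LieR G B) (m : M), m ∉ F → K c f x m := by
  classical
  have hE : (tact c f).IsAut := isAut c f
  obtain ⟨s, hs⟩ := ‹Algebra.FiniteType R c.A›.out
  refine ⟨(s.biUnion fun a => ((tact c f).rho a).coeff.support).image Multiplicative.toAdd, ?_⟩
  intro B _ _ x m hm
  refine (hE.comp_eq_one_iff (infR_mem c x)).mp ?_
  have h1 : (hE.comp m (infR_mem c x)).hom = (1 : Pt R c.A (DualNumber B)).hom := by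
    refine AlgHom.ext_of_adjoin_eq_top hs fun a ha => ?_
    apply TrivSqZeroExt.ext
    · rw [hE.fst_comp, TAct.fst_eq (infR_mem c x), TAct.fst_eq (one_mem _)]
    · rw [hE.snd_comp, TAct.snd_one_hom]
      have h2 : pr (tact c f).coact m a = 0 := by
        rw [pr_def]
        by_contra h3
        apply hm
        refine Finset.mem_image.2 ⟨Multiplicative.ofAdd m, Finset.mem_biUnion.2 ⟨a, ha, ?_⟩, rfl⟩
        exact Finsupp.mem_support_iff.2 h3
      rw [h2, map_zero]
      rfl
  apply Pt.ext
  intro a
  exact DFunLike.congr_fun h1 a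

/-- An element all of whose components of weight outside `T` vanish is a product of weight vectors of
weights in `T`. -/
theorem mem_iSup [Algebra.FiniteType R c.A] (T : Set M) (x : LieS.LieR G B)
    (hx : ∀ m ∉ T, K c f x m) :
    x ∈ ⨆ m ∈ T, LieWt.weightSpOf f (Red.chi (Spec (CommRingCat.of R)) m) B := by
  classical
  obtain ⟨F, hF⟩ := exists_finset c f
  have key : ∀ (F : Finset M) (x : LieS.LieR G B), (∀ m ∉ F, K c f x m) → (∀ m ∉ T, K c f x m) →
      x ∈ ⨆ m ∈ T, LieWt.weightSpOf f (Red.chi (Spec (CommRingCat.of R)) m) B := by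
    intro F
    induction F using Finset.induction_on with
    | empty =>
      intro x h _
      have h1 : x = 1 := by
        apply infR_injective c
        rw [_root_.map_one]
        refine TAct.infP_ext_gr (E := tact c f) (infR_mem c x) (one_mem _) fun m a ha => ?_
        rw [TAct.snd_one_hom]
        exact h m (Finset.notMem_empty m) a ha
      rw [h1]
      exact one_mem _
    | insert m F _ ih =>
      intro x h hT
      obtain ⟨y, hy, hk, h1⟩ := exists_comp c f x m
      have hy' := (mem_weightSpOf_iff_K c f m y).1 hy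
      have h2 : x * y⁻¹ ∈ ⨆ m ∈ T, LieWt.weightSpOf f (Red.chi (Spec (CommRingCat.of R)) m) B := by
        refine ih _ (fun n hn => ?_) (fun n hn => ?_)
        · by_cases hnm : n = m
          · subst hnm
            exact hk
          · exact (h n (by simp [hnm, hn])).mul c f ((hy' n hnm).inv c f)
        · by_cases hnm : n = m
          · subst hnm
            exact hk
          · exact (hT n hn).mul c f ((hy' n hnm).inv c f)
      have h3 : y ∈ ⨆ m ∈ T, LieWt.weightSpOf f (Red.chi (Spec (CommRingCat.of R)) m) B := by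
        by_cases hm : m ∈ T
        · exact (le_iSup₂ (f := fun m (_ : m ∈ T) =>
            LieWt.weightSpOf f (Red.chi (Spec (CommRingCat.of R)) m) B) m hm) hy
        · rw [h1 (hT m hm)]
          exact one_mem _
      have h4 := mul_mem h2 h3
      rwa [inv_mul_cancel_right] at h4
  exact key F x (fun m hm => hF B x m hm) hx

theorem mem_iSup_iff [Algebra.FiniteType R c.A] (T : Set M) (x : LieS.LieR G B) :
    (x ∈ ⨆ m ∈ T, LieWt.weightSpOf f (Red.chi (Spec (CommRingCat.of R)) m) B) ↔ ∀ m ∉ T, K c f x m := by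
  refine ⟨fun h => ?_, mem_iSup c f T x⟩
  let W : Subgroup (LieS.LieR G B) :=
    { carrier := {x | ∀ m ∉ T, K c f x m}
      mul_mem' := fun hx hy m hm => (hx m hm).mul c f (hy m hm)
      one_mem' := fun m _ a _ => by
        rw [_root_.map_one, TAct.snd_one_hom]
      inv_mem' := fun hx m hm => (hx m hm).inv c f }
  have h1 : (⨆ m ∈ T, LieWt.weightSpOf f (Red.chi (Spec (CommRingCat.of R)) m) B) ≤ W := by
    refine iSup₂_le fun m hm y hy n hn => ?_
    refine (mem_weightSpOf_iff_K c f m y).1 hy n ?_
    rintro rfl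
    exact hn hm
  exact h1 h

end

section sub

variable {R : Type u} [CommRing R] {G : Over (Spec (CommRingCat.of R))} [GrpObj G]

/-- elements of the Lie algebra which come from a subgroup -/
lemma mem_map_iff {P : Over (Spec (CommRingCat.of R))} [GrpObj P] (p : P ⟶ G) [IsMonHom p] [Mono p]
    {B : Type u} [CommRing B] [Algebra R B] (x : LieS.LieR G B) :
    x ∈ Subgroup.map (LieS.map B (Spec.map (CommRingCat.ofHom (algebraMap R B))) p) ⊤ ↔
      ∃ z : LieS.dpt B (Spec.map (CommRingCat.ofHom (algebraMap R B))) ⟶ P, z ≫ p = x.1 := by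
  constructor
  · rintro ⟨y, -, hy⟩
    exact ⟨y.1, congrArg Subtype.val hy⟩
  · rintro ⟨z, hz⟩
    have h1 : LieS.zeroSec B _ ≫ z = 1 := by
      rw [← cancel_mono p, Category.assoc, hz, (LieS.mem_Lie_iff G B _ x.1).1 x.2, MonObj.one_comp]
    refine ⟨⟨z, (LieS.mem_Lie_iff P B _ z).2 h1⟩, Subgroup.mem_top _, Subtype.ext hz⟩

variable (c : Chart G (𝟙 (Spec (CommRingCat.of R)))) {M : Type} [AddCommGroup M]
  (f : Red.DS (Spec (CommRingCat.of R)) M ⟶ G) [IsMonHom f]
variable {B : Type u} [CommRing B] [Algebra R B]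

/-- the condition `PtT` for elements of the Lie algebra -/
lemma ptT_iff_K [IsAffineHom G.hom] (T : Submonoid (Multiplicative M)) (h0 : (1 : Multiplicative M) ∈ T)
    (x : LieS.LieR G B) :
    PtT f T x.1 ↔ ∀ m : M, Multiplicative.ofAdd m ∉ T → K c f x m := by
  have hE : (tact c f).IsAut := isAut c f
  have h1 : PtT f T x.1 ↔ PtT f T ((castD (str_eq R B)).hom ≫ x.1) := by
    constructor
    · exact fun h => h.comp _
    · intro h
      have := h.comp (castD (str_eq R B)).inv
      rwa [Iso.inv_hom_id_assoc] at this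
  have h2 : (castD (str_eq R B)).hom ≫ x.1 = c.pts (DualNumber B) (infR c B x) :=
    (pts_inf c (str_eq R B) x).symm
  rw [h1, h2]
  have h3 : PtT f T (c.pts (DualNumber B) (infR c B x)) ↔
      QT f (DualNumber B) (st R (DualNumber B)) T (c.pts (DualNumber B) (infR c B x)) :=
    Rep998.IdealCond.ptQ_iff (idealCond f T) (c := st R (DualNumber B)) (c.pts (DualNumber B) (infR c B x))
  rw [h3, qt_pts_iff]
  refine forall_congr' fun m => forall_congr' fun hm => ?_
  have hm0 : m ≠ 0 := by
    rintro rfl
    exact hm h0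
  constructor
  · intro h a ha
    rw [h a ha]
    rfl
  · intro h a ha
    apply TrivSqZeroExt.ext
    · exact hE.fst_eq_zero (infR_mem c x) hm0 ha
    · exact h a ha

/-- **The Lie algebra of the subgroup of the weights in `T`.** -/
theorem lie_eq [IsAffineHom G.hom] [LocallyOfFiniteType G.hom] (T : Submonoid (Multiplicative M))
    {P : Over (Spec (CommRingCat.of R))} [GrpObj P] (p : P ⟶ G) [IsMonHom p] [Mono p]
    (hP : ∀ (X : Over (Spec (CommRingCat.of R))) (g : X ⟶ G), (∃ x : X ⟶ P, x ≫ p = g) ↔ PtT f T g) :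
    Subgroup.map (LieS.map B (Spec.map (CommRingCat.ofHom (algebraMap R B))) p) ⊤ =
      ⨆ m ∈ {m : M | Multiplicative.ofAdd m ∈ T},
        LieWt.weightSpOf f (Red.chi (Spec (CommRingCat.of R)) m) B := by
  obtain ⟨c⟩ := Groth.Agent.Sga3B.exists_chart G (𝟙 (Spec (CommRingCat.of R)))
  have hft : Algebra.FiniteType R c.A := by
    have h1 : LocallyOfFiniteType (Spec.map (CommRingCat.ofHom (algebraMap R c.A))) :=
      MorphismProperty.of_isPullback (P := @LocallyOfFiniteType) c.isPullback ‹_›
    have h2 := (HasRingHomProperty.Spec_iff (P := @LocallyOfFiniteType)).1 h1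
    exact RingHom.finiteType_algebraMap.1 h2
  ext x
  rw [mem_map_iff, hP, ptT_iff_K c f T T.one_mem x, mem_iSup_iff c f]
  rfl

end sub

end K147.LieSup
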