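import Groth.Agent.Par.K147.LieSup
import Groth.Agent.Par.K147.LieIso
import Groth.Agent.Par.K547.DynTools

/-!
# The parabolic subgroup `P_f` attached to `f : D(Γ) ⟶ G`
-/

set_option autoImplicit false
set_option linter.unusedSectionVars false

universe u

open CategoryTheory MonoidalCategory CartesianMonoidalCategory MonObj GrpObj AlgebraicGeometry Limits

namespace K147.PfMain

open Groth.Agent.Sga3B Groth.Agent.Sga3B.Parab Groth.Agent.Sga3B.Parab.OrbM156 K147.Dict

variable {R : Type u} [CommRing R] {G : Over (Spec (CommRingCat.of R))} [GrpObj G]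

section transfer

variable {P P' : Over (Spec (CommRingCat.of R))} [GrpObj P] [GrpObj P'] (p : P ⟶ G) (p' : P' ⟶ G)
  [IsMonHom p] [IsMonHom p'] [Mono p] [Mono p']

/-- tangent vectors of `P` are tangent vectors of `P'` if the images of the Lie algebras agree -/
lemma factor (h : ∀ (B : Type u) [CommRing B] [Algebra R B],
      Subgroup.map (LieS.map B (Spec.map (CommRingCat.ofHom (algebraMap R B))) p) ⊤ =
        Subgroup.map (LieS.map B (Spec.map (CommRingCat.ofHom (algebraMap R B))) p') ⊤)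
    (K : Type u) [Field K] (x : Spec (CommRingCat.of K) ⟶ Spec (CommRingCat.of R))
    (w : LieS.dpt K x ⟶ P) (hw : LieS.zeroSec K x ≫ w = 1) :
    ∃ v : LieS.dpt K x ⟶ P', v ≫ p' = w ≫ p := by
  have key : ∀ (_ : Algebra R K), x = Spec.map (CommRingCat.ofHom (algebraMap R K)) →
      ∃ v : LieS.dpt K x ⟶ P', v ≫ p' = w ≫ p := by
    intro _ hx
    subst hx
    let y : LieS.LieR G K := ⟨w ≫ p, (LieS.mem_Lie_iff G K _ (w ≫ p)).2 (by
      rw [← Category.assoc, hw, MonObj.one_comp])⟩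
    have h1 : y ∈ Subgroup.map (LieS.map K (Spec.map (CommRingCat.ofHom (algebraMap R K))) p) ⊤ :=
      (K147.LieSup.mem_map_iff p y).2 ⟨w, rfl⟩
    rw [h K] at h1
    exact (K147.LieSup.mem_map_iff p' y).1 h1
  exact key (Spec.preimage x).hom.toAlgebra (Spec.map_preimage x).symm

end transfer

/-- **Uniqueness.**  A parabolic subgroup which contains `Z_G(lam)` and has the Lie algebra of `P_G(lam)` is
`P_G(lam)`. -/
theorem exists_iso (hG : Red.IsReductive G) (lam : Red.Gm (Spec (CommRingCat.of R)) ⟶ G) [IsMonHom lam]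
    {P P₁ Z : Over (Spec (CommRingCat.of R))} [GrpObj P] [GrpObj P₁] [GrpObj Z] {p : P ⟶ G} {p₁ : P₁ ⟶ G}
    [IsMonHom p] [IsMonHom p₁] {z : Z ⟶ G} (hp : IsDynP lam p) (hz : IsDynZ lam z) (hpar : Red.IsParabolic p₁)
    (z₁ : Z ⟶ P₁) (hz₁ : z₁ ≫ p₁ = z)
    (h : ∀ (B : Type u) [CommRing B] [Algebra R B],
      Subgroup.map (LieS.map B (Spec.map (CommRingCat.ofHom (algebraMap R B))) p₁) ⊤ =
        Subgroup.map (LieS.map B (Spec.map (CommRingCat.ofHom (algebraMap R B))) p) ⊤) :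
    ∃ e : P₁ ≅ P, e.hom ≫ p = p₁ := by
  have hGa := hG.1
  have hGs := hG.2.1
  have hc₁ := hpar.2.1
  have hs₁ := hpar.2.2.1
  have hmono₁ : Mono p₁ := DynClosed998.mono_of_isClosedImmersion p₁
  have hPa₁ : IsAffineHom P₁.hom := K546.DimPar.isAffineHom hG hpar
  have hconn₁ := K546.DimPar.connectedSpace_geomFibre hG hpar
  have hpmono := hp.mono
  have hpar' : Red.IsParabolic p := Groth.Agent.K547.DynTools.isParabolic_of_isDynP lam hG hp
  have hpc := hpar'.2.1
  have hps := hpar'.2.2.1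
  have hPa : IsAffineHom P.hom := K546.DimPar.isAffineHom hG hpar'
  have hconn := K546.DimPar.connectedSpace_geomFibre hG hpar'
  -- the one-parameter subgroup factors through `P₁`
  obtain ⟨lamZ, hlamZ, hlamZ'⟩ := DynClosed998.exists_lamZ hz
  obtain ⟨mu, hmu⟩ : ∃ mu : Red.Gm (Spec (CommRingCat.of R)) ⟶ P₁, mu ≫ p₁ = lam :=
    ⟨lamZ ≫ z₁, by rw [Category.assoc, hz₁, hlamZ']⟩
  have hmum : IsMonHom mu := by
    have : IsMonHom (mu ≫ p₁) := by rw [hmu]; infer_instance
    exact DynLevi998.isMonHom_of_comp_mono (p := p₁)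
  obtain ⟨Q, _, q, hq, hqc⟩ := DynExist998.exists_isDynP mu
  have hqm := hq.isMonHom
  have hqmono := hq.mono
  have hqs : Smooth Q.hom := hq.smooth
  have hq1 : IsIso q := by
    refine K147.LieIso.isIso_of_lie q hconn₁ fun K _ x w hw => ?_
    obtain ⟨v, hv⟩ := factor p₁ p h K x w hw
    rw [hq.iff_ptP, ← DynClosed998.ptP_comp_iff (i := p₁), hmu, ← hp.iff_ptP]
    exact ⟨v, hv⟩
  -- `P₁` is contained in `P`
  obtain ⟨i, hi⟩ : ∃ i : P₁ ⟶ P, i ≫ p = p₁ := by
    rw [hp.iff_ptP, ← hmu]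
    have h1 : PtP mu (𝟙 P₁) := (hq.iff_ptP _ _).1 ⟨inv q, IsIso.inv_hom_id q⟩
    have h2 := (DynClosed998.ptP_comp_iff (i := p₁) (mu := mu) (𝟙 P₁)).2 h1
    rwa [Category.id_comp] at h2
  have him : IsMonHom i := by
    have : IsMonHom (i ≫ p) := by rw [hi]; infer_instance
    exact DynLevi998.isMonHom_of_comp_mono (p := p)
  have hic : IsClosedImmersion i.left := by
    have : IsClosedImmersion (i.left ≫ p.left) := by
      rw [← Over.comp_left, hi]
      exact hc₁
    exact IsClosedImmersion.of_comp i.left p.left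
  have hiso : IsIso i := by
    refine K147.LieIso.isIso_of_lie i hconn fun K _ x w hw => ?_
    obtain ⟨v, hv⟩ := factor p p₁ (fun B _ _ => (h B).symm) K x w hw
    refine ⟨v, ?_⟩
    rw [← cancel_mono p, Category.assoc, hi, hv]
  exact ⟨asIso i, hi⟩

section centralizer

variable {Γ : Type} [AddCommGroup Γ] [LinearOrder Γ] [IsOrderedAddMonoid Γ]
  (f : Red.DS (Spec (CommRingCat.of R)) Γ ⟶ G) [IsMonHom f]

/-- The one-parameter subgroup and the subgroup `P_f`. -/
theorem exists_main (hG : Red.IsReductive G) {Z : Over (Spec (CommRingCat.of R))} [GrpObj Z] (z : Z ⟶ G)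
    (hZ : Red.IsCentralizerOf f z) :
    ∃ (lam : Red.Gm (Spec (CommRingCat.of R)) ⟶ G) (_ : IsMonHom lam)
      (P : Over (Spec (CommRingCat.of R))) (_ : GrpObj P) (p : P ⟶ G) (_ : IsMonHom p),
      IsDynP lam p ∧ IsDynZ lam z ∧ Red.IsParabolic p ∧
      ∀ (B : Type u) [CommRing B] [Algebra R B],
        Subgroup.map (LieS.map B (Spec.map (CommRingCat.ofHom (algebraMap R B))) p) ⊤ =
          ⨆ c ∈ {c : Γ | 0 ≤ c}, LieWt.weightSpOf f (Red.chi (Spec (CommRingCat.of R)) c) B := by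
  have hGa := hG.1
  have hGs := hG.2.1
  have hft : LocallyOfFiniteType G.hom := inferInstance
  obtain ⟨lam, hlam, h1, h2, -⟩ := exists_lam f
  obtain ⟨P, _, p, hp, hpar⟩ := Groth.Agent.K547.DynTools.exists_isDynP lam hG
  have hpm := hp.isMonHom
  have hpmono := hp.mono
  refine ⟨lam, hlam, P, inferInstance, p, hpm, hp, ?_, hpar, fun B _ _ => ?_⟩
  · refine ⟨hZ.1, hZ.2.1, fun X g => ?_⟩
    rw [hZ.2.2, commutes_iff_ptT f g, h2]
  · exact K147.LieSup.lie_eq f (AddSubmonoid.toSubmonoid (pos Γ)) p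
      (fun X g => (hp.iff_ptP X g).trans (h1 X g).symm)

end centralizer

end K147.PfMain
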